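import Cfsg.Agent.DZ3.Spor.Base
import Cfsg.Agent.H513.PQ.J2
import Cfsg.Agent.H344.S8.HSDeg
import Cfsg.Agent.H393.S8.HeDeg
import Cfsg.Agent.H505.HT.RuThree

/-!
# S4527, sporadic groups: `J₂`, `HS`, `Ru` for `p = 5`, `He` for `p = 7` (helper11)
-/

set_option autoImplicit false

open Cfsg

namespace Cfsg.Agent.DZ3.Spor

open Cfsg.Agent.H665.NoPQ

universe u

theorem j2_5 {K : Type u} [Group K] (h : Spor.IsoJ2 K) : HasDZ 5 K := by
  have hn := NotCT.Orders.j2 h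
  obtain ⟨e⟩ := h
  obtain ⟨χ, hχ⟩ := H513.PQ.J2.exists_175
  exact of_deg e (a := 2) (d := 175) (by norm_num) ⟨χ, hχ⟩ hn (by norm_num) (by norm_num) (by norm_num)

theorem hs_5 {K : Type u} [Group K] (h : Spor.IsoHS K) : HasDZ 5 K := by
  have hn := NotCT.Orders.hs h
  obtain ⟨e⟩ := h
  obtain ⟨f⟩ := H344.S8.HS.isoQ
  exact of_deg (e.trans f.symm) (a := 3) (d := 1750) (by norm_num) (H344.S8.HS.mem_Q 1750 (by decide)) hn
    (by norm_num) (by norm_num) (by norm_num)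

theorem he_7 {K : Type u} [Group K] (h : Spor.IsoHe K) : HasDZ 7 K := by
  have hn := NotCT.Orders.he h
  obtain ⟨e⟩ := h
  obtain ⟨χ, hχ⟩ := H393.S8.HeDeg.exists_17493
  exact of_deg e (a := 3) (d := 17493) (by norm_num) ⟨χ, hχ⟩ hn (by norm_num) (by norm_num) (by norm_num)

theorem ru_5 {K : Type u} [Group K] (h : Spor.IsoRu K) : HasDZ 5 K := by
  have hn := NotCT.Orders.ru h
  obtain ⟨e⟩ := h
  exact of_deg (e.trans RuLat.Main.equiv) (a := 3) (d := 76125) (by norm_num)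
    ⟨⟨_, H505.HT.Ru.irr_tu⟩, H505.HT.Ru.deg_tu⟩ hn (by norm_num) (by norm_num) (by norm_num)

end Cfsg.Agent.DZ3.Spor
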