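import Cfsg.Agent.DZ3.Spor.Base
import Cfsg.Agent.H714.S8.SuzGen

/-!
# S4527, sporadic groups: `Suz` for `p = 5`, the character of degree `100100` (helper11)
-/

set_option autoImplicit false
set_option maxRecDepth 100000

open Cfsg

namespace Cfsg.Agent.DZ3.Spor.Suz

open Cfsg.Agent.H665.NoPQ Cfsg.Agent.H300.Cls Cfsg.Agent.H714.S8.SuzFam

universe u

/-- the table of the character of degree `100100` -/
def wz : List ℤ := [580, 100100, -12, -2, 38, 0, 20, -2, 0, 0, 0, 0, 0, 0, 0, 0, 0, 0, 0, -2, -1, 1, -2, 2, -2, 0, -2, 0, 10, 0, 0, 0, 4, -8, 0, -20, -70]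

theorem gc_wz : GC fam wz := GC.lin fam_lt [
    (-10141623187509890979776068053, v0),
    (-110192676791158999089803779983, v1),
    (76193340263643459207021203654, v2),
    (-135587922579771882455823937113, v58),
    (-245711539123260557495741802211, w243243),
    (153085213607754950372124337829, w197120),
    (-59376100527641933520714448569, v28),
    (-284091144399905777469725865918, v8),
    (-61434285101810771789108989443, v23),
    (-327037589850992358923436964673, v9),
    (-597522502915638189399886705599, v10),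
    (170835484427675901950007576958, v11),
    (19241152479479721669259480046, v25),
    (-2315987311873957160372992410, v30),
    (151109630604418140405546154624, v26),
    (168806117363348423435401949344, v31),
    (-19011832672053020677754293159, v12),
    (156809531264419425797202825012, v59),
    (-15219462495780621863755342265, v14),
    (-10865970152321882453655197884, v16),
    (50812346396667919622518532066, v19),
    (82914038675956142104228073697, v41),
    (-1629248822461340248507315011, v39),
    (68316201997880888380093040555, v46),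
    (-37061059313166072898688860266, v13),
    (192821252228373541326131336990, v27),
    (217995382542024574083253505619, v36),
    (-3788029083899137462989282080, v34),
    (-6715753636741970828161565805, v15),
    (-56093137732411501996160591438, v32),
    (61829407337120067167770034195, v20),
    (652704525617642419892256033, v40),
    (1607586080362421254111719938, v44),
    (-19945759279181359337342568591, v37),
    (-49793647233842604486992547866, v42),
    (-1903582632982729094113230555, v47),
    (2622530065960794631072770882, v35),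
    (-1160114761255619494378234208, v45),
    (5, v38)]
    (List.forall_mem_cons.2 ⟨g0,
    List.forall_mem_cons.2 ⟨g1,
    List.forall_mem_cons.2 ⟨g2,
    List.forall_mem_cons.2 ⟨g58,
    List.forall_mem_cons.2 ⟨gc243243,
    List.forall_mem_cons.2 ⟨gc197120,
    List.forall_mem_cons.2 ⟨g28,
    List.forall_mem_cons.2 ⟨g8,
    List.forall_mem_cons.2 ⟨g23,
    List.forall_mem_cons.2 ⟨g9,
    List.forall_mem_cons.2 ⟨g10,
    List.forall_mem_cons.2 ⟨g11,
    List.forall_mem_cons.2 ⟨g25,
    List.forall_mem_cons.2 ⟨g30,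
    List.forall_mem_cons.2 ⟨g26,
    List.forall_mem_cons.2 ⟨g31,
    List.forall_mem_cons.2 ⟨g12,
    List.forall_mem_cons.2 ⟨g59,
    List.forall_mem_cons.2 ⟨g14,
    List.forall_mem_cons.2 ⟨g16,
    List.forall_mem_cons.2 ⟨g19,
    List.forall_mem_cons.2 ⟨g41,
    List.forall_mem_cons.2 ⟨g39,
    List.forall_mem_cons.2 ⟨g46,
    List.forall_mem_cons.2 ⟨g13,
    List.forall_mem_cons.2 ⟨g27,
    List.forall_mem_cons.2 ⟨g36,
    List.forall_mem_cons.2 ⟨g34,
    List.forall_mem_cons.2 ⟨g15,
    List.forall_mem_cons.2 ⟨g32,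
    List.forall_mem_cons.2 ⟨g20,
    List.forall_mem_cons.2 ⟨g40,
    List.forall_mem_cons.2 ⟨g44,
    List.forall_mem_cons.2 ⟨g37,
    List.forall_mem_cons.2 ⟨g42,
    List.forall_mem_cons.2 ⟨g47,
    List.forall_mem_cons.2 ⟨g35,
    List.forall_mem_cons.2 ⟨g45,
    List.forall_mem_cons.2 ⟨g38, List.forall_mem_nil _⟩⟩⟩⟩⟩⟩⟩⟩⟩⟩⟩⟩⟩⟩⟩⟩⟩⟩⟩⟩⟩⟩⟩⟩⟩⟩⟩⟩⟩⟩⟩⟩⟩⟩⟩⟩⟩⟩⟩) wz (by decide +kernel)

theorem suz_5 {K : Type u} [Group K] (h : Spor.IsoSuz K) : HasDZ 5 K := by
  have hn := NotCT.Orders.suz h
  obtain ⟨e⟩ := h
  obtain ⟨θ, h1, h2, -⟩ := girr gc_wz (d := 100100) (by decide +kernel) (by decide +kernel) (by decide +kernel)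
  exact of_deg e (a := 2) (d := 100100) (by norm_num) (mem_of_one h1 h2) hn (by norm_num) (by norm_num) (by norm_num)

end Cfsg.Agent.DZ3.Spor.Suz
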