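import Cfsg.Agent.DZ3.Spor.Known
import Cfsg.Agent.DZ3.Spor.Easy
import Cfsg.Agent.DZ3.Spor.Suz
import Cfsg.Agent.DZ3.Cyc
import Cfsg.Agent.R2.DZ.Iface
import Cfsg.Agent.H620.PNRows

/-!
# S4527: the rows of the Tits group and of the sporadic groups (helper11)

`tits`, `spor_of` : from the rows `Co₁/5`, `Co₂/5`, `Co₃/5`, `HN/5`, `B/5`, `M/5`, `M/7` for the groups of the prelude.
-/

set_option autoImplicit false

open Cfsg

namespace Cfsg.Agent.DZ3.Spor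

open Cfsg.Agent.H665.NoPQ Cfsg.Agent.H620.PNRows

universe u

/-- the property -/
def PP (p : ℕ) (K : Type u) [Group K] : Prop := 5 ≤ p → HasDZ p K

theorem pp2 {K : Type u} [Group K] : PP 2 K := fun h => absurd h (by norm_num)

theorem pp3 {K : Type u} [Group K] : PP 3 K := fun h => absurd h (by norm_num)

theorem rows (hK : H995.CopEngine.AllKnown.{0}) (c1 : HasDZ 5 Spor.Co1) (c2 : HasDZ 5 Spor.Co2) (c3 : HasDZ 5 Spor.Co3)
    (hn : HasDZ 5 Spor.HN) (b5 : HasDZ 5 Spor.BabyMonster) (m5 : HasDZ 5 Spor.Monster) (m7 : HasDZ 7 Spor.Monster) :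
    SporRows 3 (fun p K _ => PP.{u} p K) where
  tits_2 := fun _ _ _ _ => pp2
  tits_3 := fun _ => pp3
  tits_5 := fun h _ => H681.Van.TitsFive.hasDZ_five h
  m11_2 := fun _ _ _ _ => pp2
  m11_3 := fun _ => pp3
  m12_2 := fun _ _ _ _ => pp2
  m12_3 := fun _ => pp3
  m22_2 := fun _ _ _ _ => pp2
  m22_3 := fun _ => pp3
  m23_2 := fun _ _ _ _ => pp2
  m23_3 := fun _ => pp3
  m24_2 := fun _ _ _ _ => pp2
  m24_3 := fun _ => pp3
  j1_2 := fun _ _ _ _ => pp2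
  j2_2 := fun _ _ _ _ => pp2
  j2_3 := fun _ => pp3
  j2_5 := fun h _ => j2_5 h
  j3_2 := fun _ _ _ _ => pp2
  j3_3 := fun _ => pp3
  j4_2 := fun _ _ _ _ => pp2
  j4_3 := fun _ => pp3
  j4_11 := fun h _ => j4_11 h
  co1_2 := fun _ _ _ _ => pp2
  co1_3 := fun _ => pp3
  co1_5 := fun ⟨e⟩ _ => R2.DZ.congr e.symm c1
  co1_7 := fun h _ => co1_7 h
  co2_2 := fun _ _ _ _ => pp2
  co2_3 := fun _ => pp3
  co2_5 := fun ⟨e⟩ _ => R2.DZ.congr e.symm c2
  co3_2 := fun _ _ _ _ => pp2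
  co3_3 := fun _ => pp3
  co3_5 := fun ⟨e⟩ _ => R2.DZ.congr e.symm c3
  mcl_2 := fun _ _ _ _ => pp2
  mcl_3 := fun _ => pp3
  mcl_5 := fun h _ => H681.Van.McLFive.hasDZ_five h
  hs_2 := fun _ _ _ _ => pp2
  hs_3 := fun _ => pp3
  hs_5 := fun h _ => hs_5 h
  suz_2 := fun _ _ _ _ => pp2
  suz_3 := fun _ => pp3
  suz_5 := fun h _ => Suz.suz_5 h
  he_2 := fun _ _ _ _ => pp2
  he_3 := fun _ => pp3
  he_5 := fun h _ => he_5 h
  he_7 := fun h _ => he_7 h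
  ru_2 := fun _ _ _ _ => pp2
  ru_3 := fun _ => pp3
  ru_5 := fun h _ => ru_5 h
  on_2 := fun _ _ _ _ => pp2
  on_3 := fun _ => pp3
  on_7 := fun h _ => on_7 h
  ly_2 := fun _ _ _ _ => pp2
  ly_3 := fun _ => pp3
  ly_5 := fun h _ => ly_5 hK h
  fi22_2 := fun _ _ _ _ => pp2
  fi22_3 := fun _ => pp3
  fi22_5 := fun h _ => H729.FiTTRank.hasDZ_five h
  fi23_2 := fun _ _ _ _ => pp2
  fi23_3 := fun _ => pp3
  fi23_5 := fun h _ => H759.LSix.FiTT.fi23_5 h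
  fi24_2 := fun _ _ _ _ => pp2
  fi24_3 := fun _ => pp3
  fi24_5 := fun h _ => H30.FiE.Down.hasDZ_five h
  fi24_7 := fun h _ => fi24_7 h
  hn_2 := fun _ _ _ _ => pp2
  hn_3 := fun _ => pp3
  hn_5 := fun ⟨e⟩ _ => R2.DZ.congr e.symm hn
  th_2 := fun _ _ _ _ => pp2
  th_3 := fun _ => pp3
  th_5 := fun h _ => th_all h (by norm_num)
  th_7 := fun h _ => th_all h (by norm_num)
  b_2 := fun _ _ _ _ => pp2
  b_3 := fun _ => pp3
  b_5 := fun ⟨e⟩ _ => R2.DZ.congr e.symm b5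
  b_7 := fun h _ => b_7 h
  m_2 := fun _ _ _ _ => pp2
  m_3 := fun _ => pp3
  m_5 := fun ⟨e⟩ _ => R2.DZ.congr e.symm m5
  m_7 := fun ⟨e⟩ _ => R2.DZ.congr e.symm m7
  m_11 := fun h _ => H816.MEleven.dz_11 h
  m_13 := fun h _ => H816.MEleven.dz_13 h

theorem of_one {p : ℕ} (hp : p.Prime) {G : Type u} [Group G] [Finite G] [IsSimpleGroup G] (hna : ¬ IsMulCommutative G)
    (h : (Nat.card G).factorization p = 1) : HasDZ p G := by
  refine DZ3.of_not_sq_dvd hp hna fun h2 => ?_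
  have := (hp.pow_dvd_iff_le_factorization Nat.card_pos.ne').1 h2
  omega

/-- **the row of the Tits group** -/
theorem tits : R2.DZ.Row.{u} @Lie.IsoTits := by
  intro G _ _ _ hna h p hp h5
  by_cases h2 : p ^ 2 ∣ Nat.card G
  swap
  · exact DZ3.of_not_sq_dvd hp hna h2
  by_cases hp5 : p = 5
  · subst hp5
    exact H681.Van.TitsFive.hasDZ_five h
  exfalso
  rw [NotCT.Orders.tits h] at h2
  have h3 : p ∣ 2 ^ 11 * 3 ^ 3 * 5 ^ 2 * 13 := (dvd_pow_self p two_ne_zero).trans (by simpa using h2)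
  have hq : ∀ q : ℕ, q.Prime → ∀ k, p ∣ q ^ k → p = q := fun q hq k h =>
    (Nat.prime_dvd_prime_iff_eq hp hq).1 (hp.dvd_of_dvd_pow h)
  rcases (Nat.Prime.dvd_mul hp).1 h3 with h4 | h4
  · rcases (Nat.Prime.dvd_mul hp).1 h4 with h4 | h4
    · rcases (Nat.Prime.dvd_mul hp).1 h4 with h4 | h4
      · have := hq 2 Nat.prime_two _ h4
        omega
      · have := hq 3 Nat.prime_three _ h4
        omega
    · exact hp5 (hq 5 (by norm_num) _ h4)
  · have := (Nat.prime_dvd_prime_iff_eq hp (by norm_num)).1 h4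
    subst this
    norm_num at h2

/-- **the row of the sporadic groups** -/
theorem spor_of (hK : H995.CopEngine.AllKnown.{0}) (c1 : HasDZ 5 Spor.Co1) (c2 : HasDZ 5 Spor.Co2)
    (c3 : HasDZ 5 Spor.Co3) (hn : HasDZ 5 Spor.HN) (b5 : HasDZ 5 Spor.BabyMonster) (m5 : HasDZ 5 Spor.Monster)
    (m7 : HasDZ 7 Spor.Monster) : R2.DZ.Row.{u} @IsSporadicGroup := by
  intro G _ _ _ hna h p hp h5
  have : Fact p.Prime := ⟨hp⟩
  by_cases hd : p ∣ Nat.card G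
  · exact of_spor (rows hK c1 c2 c3 hn b5 m5 m7) h (p := p) (by omega) (fun h1 _ => of_one hp hna h1) hd h5
  · exact hasDZ_of_not_dvd hd

end Cfsg.Agent.DZ3.Spor
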