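import Cfsg.Agent.DZ3.Spor.Base
import Cfsg.Agent.TAB.Co1.Tab

/-!
# S4527, sporadic groups: `Co₁` for `p = 5`, the character of degree `2055625` (helper11)
-/

set_option autoImplicit false

namespace Cfsg.Agent.DZ3.Spor

open Cfsg Cfsg.Agent.H665.NoPQ

/-- **`Co₁` has a character of `5`-defect zero** -/
theorem co1_5 : HasDZ 5 Spor.Co1 := by
  obtain ⟨χ, h⟩ := TAB.Co1.deg
  exact of_deg (MulEquiv.refl _) (a := 4) (d := 2055625) (by norm_num)
    (mem_of_one (h.irr 22 (by decide)) (h.deg 22 (by decide))) H68.CoMdl.card_co1 (by norm_num) (by norm_num)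
    (by norm_num)

end Cfsg.Agent.DZ3.Spor
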