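import Cfsg.Agent.H633.Ore.Count

/-!
# S4527, sporadic groups: sums of class functions over a counted list of classes (helper11)
-/

set_option autoImplicit false

namespace Cfsg.Agent.DZ3.Spor

open Cfsg.Agent.H633.Ore

theorem sum_cover_aux {G κ : Type*} [Group G] [Fintype G] (f : G → κ) (hf : ∀ c g, f (c * g * c⁻¹) = f g)
    (hf' : ∀ g, f g⁻¹ = f g) (F : G → ℂ) (hF : ∀ c g, F (c * g * c⁻¹) = F g) (hF' : ∀ g, F g⁻¹ = F g)
    (l : List (Ent G κ)) : ∀ S : Finset G, (∀ p ∈ l, f p.r = p.k) → (l.map Ent.k).Nodup →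
      (∀ p ∈ l, p.q ≤ Nat.card (UU p.r)) → (∀ p ∈ l, ∀ y ∈ UU p.r, y ∈ S) →
      (l.map Ent.q).sum ≤ S.card ∧ (S.card ≤ (l.map Ent.q).sum →
        ∑ g ∈ S, F g = (l.map fun p => (p.q : ℂ) * F p.r).sum) := by
  classical
  have hU : ∀ r x : G, x ∈ UU r → f x = f r := by
    rintro r x (h | h)
    · obtain ⟨c, rfl⟩ := isConj_iff.1 h
      exact hf c r
    · obtain ⟨c, rfl⟩ := isConj_iff.1 h
      rw [hf, hf']
  have hV : ∀ r x : G, x ∈ UU r → F x = F r := by
    rintro r x (h | h)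
    · obtain ⟨c, rfl⟩ := isConj_iff.1 h
      exact hF c r
    · obtain ⟨c, rfl⟩ := isConj_iff.1 h
      rw [hF, hF']
  induction l with
  | nil =>
    intro S _ _ _ _
    refine ⟨by simp, fun h => ?_⟩
    have h0 : S = ∅ := Finset.card_eq_zero.1 (by simpa using h)
    rw [h0]
    simp
  | cons a l ih =>
    intro S hk hnd hq hS
    rw [List.map_cons, List.nodup_cons] at hnd
    have hsub : (Finset.univ.filter fun y : G => y ∈ UU a.r) ⊆ S := fun y hy =>
      hS a List.mem_cons_self y (Finset.mem_filter.1 hy).2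
    obtain ⟨h1, h2⟩ := ih (S \ Finset.univ.filter fun y : G => y ∈ UU a.r)
      (fun p hp => hk p (List.mem_cons_of_mem _ hp)) hnd.2 (fun p hp => hq p (List.mem_cons_of_mem _ hp))
      (fun p hp y hy => by
        refine Finset.mem_sdiff.2 ⟨hS p (List.mem_cons_of_mem _ hp) y hy, fun hy' => ?_⟩
        refine hnd.1 (List.mem_map.2 ⟨p, hp, ?_⟩)
        rw [← hk p (List.mem_cons_of_mem _ hp), ← hk a List.mem_cons_self, ← hU _ _ hy,
          ← hU _ _ (Finset.mem_filter.1 hy').2])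
    have hq' : a.q ≤ (Finset.univ.filter fun y : G => y ∈ UU a.r).card := by
      have h3 : Nat.card (UU a.r) = (Finset.univ.filter fun y : G => y ∈ UU a.r).card := by
        rw [Nat.card_eq_fintype_card, Fintype.card_subtype]
      rw [← h3]
      exact hq a List.mem_cons_self
    have hc := Finset.card_sdiff_add_card_eq_card hsub
    rw [List.map_cons, List.sum_cons, List.map_cons, List.sum_cons]
    refine ⟨by omega, fun h => ?_⟩
    have h4 : (Finset.univ.filter fun y : G => y ∈ UU a.r).card = a.q := by omega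
    rw [← Finset.sum_sdiff hsub, h2 (by omega), add_comm]
    congr 1
    rw [Finset.sum_congr rfl fun y hy => hV a.r y (Finset.mem_filter.1 hy).2, Finset.sum_const, h4, nsmul_eq_mul]

/-- the sum of a real class function over the group -/
theorem sum_cover {G κ : Type*} [Group G] [Fintype G] (f : G → κ) (hf : ∀ c g, f (c * g * c⁻¹) = f g)
    (hf' : ∀ g, f g⁻¹ = f g) (l : List (Ent G κ)) (hk : ∀ p ∈ l, f p.r = p.k) (hnd : (l.map Ent.k).Nodup)
    (hq : ∀ p ∈ l, p.q ≤ Nat.card (UU p.r)) (hs : Nat.card G ≤ (l.map Ent.q).sum)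
    (F : G → ℂ) (hF : ∀ c g, F (c * g * c⁻¹) = F g) (hF' : ∀ g, F g⁻¹ = F g) :
    ∑ g, F g = (l.map fun p => (p.q : ℂ) * F p.r).sum :=
  (sum_cover_aux f hf hf' F hF hF' l Finset.univ hk hnd hq fun _ _ y _ => Finset.mem_univ y).2
    (by rw [Finset.card_univ, ← Nat.card_eq_fintype_card]; exact hs)

end Cfsg.Agent.DZ3.Spor
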