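import Cfsg.Agent.DZ3.Spor.Gen
import Cfsg.Agent.DZ3.Spor.SumCov
import Cfsg.Agent.H633.Ore.Co2Cover
import Cfsg.Agent.DZ3.Spor.Tr
import Cfsg.Agent.H419.LeechIrr

/-!
# S4527, sporadic groups: `Co₂` for `p = 5`, a character of degree `31625` (helper11)

`Λ² (Λ² μ) - Λ² μ`, where `μ` has degree `23`.
-/

set_option autoImplicit false
set_option maxRecDepth 100000

namespace Cfsg.Agent.DZ3.Spor.Co2

open Cfsg Cfsg.Agent.H633.Ore Cfsg.Agent.H633.Ore.Co2 Cfsg.Agent.H633.Ore.Co2D
open Cfsg.Agent.Characters.Core Cfsg.Agent.Characters.Brauer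
open Cfsg.Agent.CoOneType.CoEval (Rep rep_mk)
open Cfsg.Agent.DZ3.Spor.Tr (tab tab_sound E_of_rep)
open Cfsg.Agent.Co2Type.Mono (tr8 tr8_conj toCo0)
open Cfsg.Agent.H419.LeechIrr (lchi isCharacter_lchi)
open Cfsg.Agent.H665.NoPQ
open scoped ComplexConjugate

/-- the entries of a matrix -/
def en (R : List (List ℤ)) (i j : ℕ) : ℤ := (R.getD i []).getD j 0

/-- eight times the traces of the first four powers, plus `384` -/
def TL : List (List ℕ) := [
  [576, 576, 576, 576], [320, 576, 320, 576], [384, 576, 384, 576], [448, 576, 448, 576], [360, 360, 576, 360],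
  [432, 432, 576, 432], [352, 448, 352, 576], [384, 320, 384, 576], [384, 384, 384, 576], [384, 448, 384, 576],
  [416, 448, 416, 576], [416, 448, 416, 576], [448, 320, 448, 576], [376, 376, 376, 376], [416, 416, 416, 416],
  [368, 432, 320, 432], [384, 432, 384, 432], [392, 360, 320, 360], [400, 432, 448, 432], [416, 432, 320, 432],
  [424, 360, 448, 360], [408, 408, 408, 408], [368, 416, 368, 448], [384, 384, 384, 320], [384, 448, 384, 320],
  [400, 416, 400, 448], [400, 416, 400, 448], [416, 384, 416, 320], [408, 408, 360, 408], [384, 416, 384, 416],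
  [400, 416, 400, 416], [408, 376, 408, 376], [400, 400, 400, 400], [368, 400, 416, 432], [376, 392, 448, 360],
  [384, 400, 384, 432], [392, 424, 416, 360], [392, 424, 416, 360], [400, 368, 448, 432], [400, 400, 352, 432],
  [408, 392, 384, 360], [376, 408, 376, 408], [392, 408, 392, 408], [392, 392, 416, 392], [400, 400, 376, 400],
  [384, 416, 384, 384], [400, 384, 400, 384], [392, 408, 392, 408], [384, 384, 384, 416], [392, 408, 392, 376],
  [392, 392, 392, 392], [384, 400, 384, 368], [392, 392, 368, 424], [392, 376, 392, 408], [376, 392, 400, 392],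
  [384, 400, 408, 400]]

theorem tab_eq : tab (en R0) (en R1) (en R2) 4 reps = TL := by decide +kernel

/-- the same for an element -/
noncomputable def tg (g : Spor.Co2) : List ℕ := (List.range 4).map fun k => (tr8 (toCo0 g ^ (k + 1)) + 384).toNat

theorem tr_all : reps.map (fun w => tg (wd w)) = TL := by
  rw [← tab_eq, tab_sound (e := fun k => toCo0 (tt k)) (A0 := en R0) (A1 := en R1) (A2 := en R2)
    (E_of_rep (rep_mk (Cfsg.Agent.CoOneType.CoFast.ok_of_okZ ok0)))
    (E_of_rep (rep_mk (Cfsg.Agent.CoOneType.CoFast.ok_of_okZ ok1)))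
    (fun _ => E_of_rep (rep_mk (Cfsg.Agent.CoOneType.CoFast.ok_of_okZ ok2)))]
  refine List.map_congr_left fun w _ => ?_
  unfold tg wd
  rw [map_list_prod, List.map_map]
  rfl

/-- `2 ^ 15` times the character -/
def kz (t : List ℕ) : ℤ :=
  (((t.getD 0 0 : ℤ) - 392) ^ 2 - 8 * ((t.getD 1 0 : ℤ) - 392)) ^ 2
    - 128 * (((t.getD 1 0 : ℤ) - 392) ^ 2 - 8 * ((t.getD 3 0 : ℤ) - 392))
    - 256 * (((t.getD 0 0 : ℤ) - 392) ^ 2 - 8 * ((t.getD 1 0 : ℤ) - 392))

theorem tot_k : (List.zipWith (fun (d : Dt) t => (d.q : ℤ) * (kz t * kz t)) data TL).sum =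
    32768 * 32768 * 42305421312000 := by decide +kernel

/-- the function -/
noncomputable def k (g : Spor.Co2) : ℂ := (kz (tg g) : ℂ) / 32768

theorem tg_conj (c g : Spor.Co2) : tg (c * g * c⁻¹) = tg g := by
  unfold tg
  refine List.map_congr_left fun k _ => ?_
  rw [map_mul, map_mul, map_inv, conj_pow, tr8_conj]

theorem finite_co2 : Finite Spor.Co2 := Nat.finite_of_card_ne_zero (by rw [card_co2]; norm_num)

theorem tr_inv (x : Spor.Co2) : tr8 (toCo0 x⁻¹) = tr8 (toCo0 x) := by
  have := finite_co2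
  have h := isCharacter_apply_inv (isCharacter_lchi toCo0) x
  unfold lchi at h
  rw [map_div₀, map_intCast, map_ofNat, div_left_inj' (by norm_num)] at h
  exact_mod_cast h

theorem tg_inv (g : Spor.Co2) : tg g⁻¹ = tg g := by
  unfold tg
  refine List.map_congr_left fun k _ => ?_
  rw [← map_pow, ← map_pow, inv_pow, tr_inv]

theorem tg_get (g : Spor.Co2) {k : ℕ} (hk : k < 4) : (((tg g).getD k 0 : ℕ) : ℤ) = tr8 (toCo0 (g ^ (k + 1))) + 384 := by
  have h := Tr.diag_eq (toCo0 g ^ (k + 1))
  rw [List.getD_eq_getElem _ _ (by rw [tg, List.length_map, List.length_range]; exact hk)]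
  simp only [tg, List.getElem_map, List.getElem_range]
  rw [map_pow, ← h, Int.toNat_natCast]

theorem sum_k [Fintype Spor.Co2] : ∑ g, k g * k g = 42305421312000 := by
  have h1 := sum_cover ff ff_conj ff_inv (data.map fun d => (⟨wd d.w, d.q, d.k⟩ : Ent _ _))
    (by
      intro p hp
      obtain ⟨d, hd, rfl⟩ := List.mem_map.1 hp
      exact (data_good d hd).1)
    (by rw [List.map_map]; exact data_nodup)
    (by
      intro p hp
      obtain ⟨d, hd, rfl⟩ := List.mem_map.1 hp
      exact (data_good d hd).2)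
    (by rw [List.map_map, card_co2]; exact data_sum) (fun g => k g * k g)
    (fun c g => by unfold k; rw [tg_conj]) (fun g => by unfold k; rw [tg_inv])
  rw [h1, List.map_map]
  have key : ∀ (L : List Dt) (T : List (List ℕ)), (L.map Dt.w).map (fun w => tg (wd w)) = T →
      (L.map ((fun p : Ent Spor.Co2 (ℕ × ℕ × ℕ × ℕ × ℕ) => (p.q : ℂ) * (k p.r * k p.r)) ∘
        fun d => (⟨wd d.w, d.q, d.k⟩ : Ent _ _))).sum =
      (((List.zipWith (fun (d : Dt) t => (d.q : ℤ) * (kz t * kz t)) L T).sum : ℤ) : ℂ) / (32768 * 32768) := by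
    intro L
    induction L with
    | nil => intro T _; simp
    | cons x L ih =>
      intro T hT
      rw [List.map_cons, List.map_cons] at hT
      subst hT
      rw [List.map_cons, List.sum_cons, ih _ rfl, List.zipWith_cons_cons, List.sum_cons]
      show (x.q : ℂ) * (k (wd x.w) * k (wd x.w)) + _ = _
      unfold k
      push_cast
      ring
  rw [key data TL (by rw [reps_eq]; exact tr_all), tot_k]
  push_cast
  norm_num

theorem k_gen [Fintype Spor.Co2] : IsGeneralizedCharacter Spor.Co2 k := by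
  have g1 := isGeneralizedCharacter_of_isCharacter (isCharacter_one (G := Spor.Co2))
  have gm := isGeneralizedCharacter_sub (isGeneralizedCharacter_of_isCharacter (isCharacter_lchi toCo0)) g1
  have gl := H300.Cls.isGeneralizedCharacter_altSq gm
  have h := isGeneralizedCharacter_sub (H300.Cls.isGeneralizedCharacter_altSq gl) gl
  refine (?_ : k = _) ▸ h
  funext g
  simp only [Pi.sub_apply, Pi.one_apply]
  have e1 : g ^ (0 + 1) = g := pow_one g
  have e2 : g ^ (1 + 1) = g * g := pow_two g
  have e4 : g ^ (3 + 1) = g * g * (g * g) := by simp only [pow_succ, pow_zero, one_mul, mul_assoc]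
  unfold k kz lchi
  rw [tg_get g (by norm_num), tg_get g (by norm_num), tg_get g (by norm_num), e1, e2, e4]
  push_cast
  ring

theorem k_one : k 1 = 31625 := by
  unfold k kz
  rw [tg_get 1 (by norm_num), tg_get 1 (by norm_num), tg_get 1 (by norm_num)]
  simp only [one_pow, map_one, SigZeroCo2.Lin.tr8_one]
  norm_num

theorem co2_5 : HasDZ 5 Spor.Co2 := by
  have := finite_co2
  have := Fintype.ofFinite Spor.Co2
  have h : 31625 ∈ charDegrees Spor.Co2 := by
    refine mem_of_gen k_gen (fun g => ?_) (by rw [sum_k, card_co2]; norm_num) (by exact_mod_cast k_one)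
    unfold k
    rw [map_div₀, map_intCast, map_ofNat]
  exact of_deg (MulEquiv.refl _) (a := 3) (n := 42305421312000) (by norm_num) h card_co2 (by norm_num)
    (by norm_num) (by norm_num)

end Cfsg.Agent.DZ3.Spor.Co2
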