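import Cfsg.Agent.DZ3.Spor.Gen
import Cfsg.Agent.H174.HT.Co3Deg

/-!
# S4527, sporadic groups: `Co₃` for `p = 5`, a character of degree `31625` (helper11)

`1 - μ² - 2 μ ν - Λ² θ - ν² + μ² θ`, where `μ`, `θ`, `ν` have the degrees `23`, `275`, `253`.
-/

set_option autoImplicit false
set_option maxRecDepth 1000000
set_option exponentiation.threshold 5000

namespace Cfsg.Agent.DZ3.Spor.Co3

open Equiv Cfsg Cfsg.Agent.H123.Cls Cfsg.Agent.H763.Cls Cfsg.Agent.H763.Co3.Dat Cfsg.Agent.Lib.BitNet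
open Cfsg.Agent.Characters.Core Cfsg.Agent.Characters.Brauer
open Cfsg.Agent.Lib.BitNetSimple (force force_eq tb tb_eq)
open Cfsg.Agent.H763.Co3.Model (N A2 card_N σ σ_apply)
open Cfsg.Agent.H763.Co3.Fin (eN)
open Cfsg.Agent.H174.HT Cfsg.Agent.H174.HT.Co3
open Cfsg.Agent.H665.NoPQ
open scoped ComplexConjugate

/-- points fixed by the square -/
noncomputable def fA2 (P : ℕ) : ℕ :=
  popF 10 (bld (fun p => band (Nat.blt p 552) (Nat.beq (lk 10 P (lk 10 P p)) p)) 10 0)

/-- points mapped to their opposite by the square -/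
noncomputable def fB2 (P : ℕ) : ℕ :=
  popF 10 (bld (fun p => band (Nat.blt p 552) (Nat.beq (lk 10 P (lk 10 P p)) (lk 10 ts p))) 10 0)

/-- `120 ^ 3` times the character -/
def kz (a b n a2 b2 : ℤ) : ℤ :=
  1728000 - 120 * (6 * a + 2 * n - 4 * b - 552) ^ 2
    - 240 * (6 * a + 2 * n - 4 * b - 552) * (60 * (a - b) - (6 * a + 2 * n - 4 * b - 552))
    - 60 * (60 * (a + b) - 120) ^ 2 + 7200 * (60 * (a2 + b2) - 120)
    - 120 * (60 * (a - b) - (6 * a + 2 * n - 4 * b - 552)) ^ 2
    + (6 * a + 2 * n - 4 * b - 552) ^ 2 * (60 * (a + b) - 120)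

/-- the contribution of a class to the norm -/
noncomputable def tk (x : ℕ × ℕ × List ℕ) : ℤ :=
  force (fA x.1) fun a => force (fB x.1) fun b => force (fN x.1) fun n => force (fA2 x.1) fun a2 =>
    force (fB2 x.1) fun b2 =>
      ((Nat.div 991533312000 (Nat.succ x.2.1) : ℕ) : ℤ) * (kz a b n a2 b2 * kz a b n a2 b2)

theorem tot_k : (D.map tk).sum = 1728000 * 1728000 * 495766656000 := by
  unfold D
  decide +kernel

theorem na_eq (r : Perm (Fin 552)) : na r = Nat.card {p : Fin 552 // r p = p} := by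
  unfold na pwc
  refine Nat.card_congr (Equiv.subtypeEquivRight fun p => ?_)
  rw [pow_one]
  exact Iff.rfl

theorem fA2_eq {P : ℕ} {r : Perm (Fin 552)} (hr : ∀ i, (r i : ℕ) = lk 10 P i) : fA2 P = na (r * r) := by
  rw [na_eq]
  unfold fA2
  have hb : ∀ i : ℕ, (bld (fun p => band (Nat.blt p 552) (Nat.beq (lk 10 P (lk 10 P p)) p)) 10 0).testBit i = true ↔
      i < 2 ^ 10 ∧ i < 552 ∧ lk 10 P (lk 10 P i) = i := by
    intro i
    rw [testBit_bld, Bool.and_eq_true, decide_eq_true_iff, band_eq, zero_add, Nat.blt_eq, Nat.beq_eq]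
  rw [popF_card (n := 552) (by norm_num) fun i hi => ((hb i).1 hi).2.1]
  refine Nat.card_congr (Equiv.subtypeEquivRight fun p => ?_)
  rw [hb, ← hr, ← hr, Fin.val_inj, Perm.mul_apply]
  exact ⟨fun h => h.2.2, fun h => ⟨lt_trans p.2 (by norm_num), p.2, h⟩⟩

theorem fB2_eq {P : ℕ} {r : Perm (Fin 552)} (hr : ∀ i, (r i : ℕ) = lk 10 P i) : fB2 P = nb (r * r) := by
  unfold fB2 nb
  have hb : ∀ i : ℕ, (bld (fun p => band (Nat.blt p 552) (Nat.beq (lk 10 P (lk 10 P p)) (lk 10 ts p))) 10 0).testBit i =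
      true ↔ i < 2 ^ 10 ∧ i < 552 ∧ lk 10 P (lk 10 P i) = lk 10 ts i := by
    intro i
    rw [testBit_bld, Bool.and_eq_true, decide_eq_true_iff, band_eq, zero_add, Nat.blt_eq, Nat.beq_eq]
  rw [popF_card (n := 552) (by norm_num) fun i hi => ((hb i).1 hi).2.1]
  refine Nat.card_congr (Equiv.subtypeEquivRight fun p => ?_)
  rw [hb, ← hr, ← hr, ← σ_apply, Fin.val_inj, Perm.mul_apply]
  exact ⟨fun h => h.2.2, fun h => ⟨lt_trans p.2 (by norm_num), p.2, h⟩⟩

/-- the function -/
noncomputable def k (r : Perm (Fin 552)) : ℂ := (kz (na r) (nb r) (nn r) (na (r * r)) (nb (r * r)) : ℂ) / 1728000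

theorem k_conj {b : Perm (Fin 552)} (hb : b ∈ A2) (r : Perm (Fin 552)) : k (b * r * b⁻¹) = k r := by
  have e : b * r * b⁻¹ * (b * r * b⁻¹) = b * (r * r) * b⁻¹ := by group
  unfold k
  rw [e, na_conj hb, nb_conj hb, nn_conj hb, na_conj hb, nb_conj hb]

theorem sum_k [Fintype N] : ∑ g : N, k g * k g = 495766656000 := by
  have h1 := clsN.2 (fun r => k r * k r) (fun b hb r => by simp only [k_conj hb])
    (fun x => ((kz (fA x.1) (fB x.1) (fN x.1) (fA2 x.1) (fB2 x.1) : ℂ) / 1728000) *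
      ((kz (fA x.1) (fB x.1) (fN x.1) (fA2 x.1) (fB2 x.1) : ℂ) / 1728000))
    (fun x hx r hr hrp => by
      show k r * k r = _
      unfold k
      rw [fA_eq hrp, fB_eq hrp, fN_eq hrp, fA2_eq hrp, fB2_eq hrp])
  rw [h1]
  have key : ∀ L : List (ℕ × ℕ × List ℕ), (L.map fun x => ((991533312000 / (x.2.1 + 1) : ℕ) : ℂ) *
      (((kz (fA x.1) (fB x.1) (fN x.1) (fA2 x.1) (fB2 x.1) : ℂ) / 1728000) *
        ((kz (fA x.1) (fB x.1) (fN x.1) (fA2 x.1) (fB2 x.1) : ℂ) / 1728000))).sum =
      (((L.map tk).sum : ℤ) : ℂ) / (1728000 * 1728000) := by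
    intro L
    induction L with
    | nil => simp
    | cons x L ih =>
      rw [List.map_cons, List.sum_cons, ih, List.map_cons, List.sum_cons]
      have e : tk x = ((991533312000 / (x.2.1 + 1) : ℕ) : ℤ) *
          (kz (fA x.1) (fB x.1) (fN x.1) (fA2 x.1) (fB2 x.1) * kz (fA x.1) (fB x.1) (fN x.1) (fA2 x.1) (fB2 x.1)) := by
        unfold tk
        simp only [force_eq]
        rfl
      rw [e, Int.cast_add, Int.cast_mul, Int.cast_mul, Int.cast_natCast]
      generalize 991533312000 / (x.2.1 + 1) = m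
      ring
  rw [key, tot_k]
  push_cast
  norm_num

theorem k_gen : IsGeneralizedCharacter N (fun g : N => k g) := by
  have g1 := isGeneralizedCharacter_of_isCharacter (isCharacter_one (G := N))
  have gm := isGeneralizedCharacter_of_isCharacter isCharacter_mu
  have gp := isGeneralizedCharacter_of_isCharacter isCharacter_pi
  have ga := isGeneralizedCharacter_of_isCharacter isCharacter_a
  have gt := isGeneralizedCharacter_sub gp g1
  have gn := isGeneralizedCharacter_sub (isGeneralizedCharacter_sub ga gp) gm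
  have gl := H300.Cls.isGeneralizedCharacter_altSq gt
  have gmm := isGeneralizedCharacter_mul gm gm
  have gmn := isGeneralizedCharacter_mul gm gn
  have h := isGeneralizedCharacter_add (isGeneralizedCharacter_sub (isGeneralizedCharacter_sub
    (isGeneralizedCharacter_sub (isGeneralizedCharacter_sub (isGeneralizedCharacter_sub g1 gmm) gmn) gmn) gl)
    (isGeneralizedCharacter_mul gn gn)) (isGeneralizedCharacter_mul gmm gt)
  refine (?_ : (fun g : N => k g) = _) ▸ h
  funext g
  simp only [Pi.sub_apply, Pi.add_apply, Pi.mul_apply, Pi.one_apply, Subgroup.coe_mul]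
  unfold k kz
  push_cast
  ring

theorem k_one : k 1 = 31625 := by
  have e1 : na 1 = 552 := by
    rw [na_eq, Nat.card_congr (Equiv.subtypeUnivEquiv (p := fun p : Fin 552 => (1 : Perm (Fin 552)) p = p)
      (fun p => rfl)), Nat.card_eq_fintype_card, Fintype.card_fin]
  have e2 : nb 1 = 0 := by
    unfold nb
    rw [Nat.card_eq_zero]
    left
    refine ⟨fun p => ?_⟩
    exact (irr p.1).2.2 p.2.symm
  have e3 : nn 1 = 0 := by
    unfold nn pwc
    rw [Nat.card_eq_zero]
    left
    refine ⟨?_⟩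
    rintro ⟨p, hp⟩
    have h1 : Pw row true p (((1 : Perm (Fin 552)) ^ 1) p) := hp
    rw [one_pow] at h1
    change (row p).testBit (p : Fin 552) = true at h1
    rw [(irr p).1] at h1
    exact Bool.noConfusion h1
  unfold k kz
  rw [mul_one, e1, e2, e3]
  norm_num

theorem co3_5 : HasDZ 5 Spor.Co3 := by
  have := finN
  have := Fintype.ofFinite N
  have h : 31625 ∈ charDegrees N := by
    refine mem_of_gen k_gen (fun g => ?_) (by rw [sum_k, card_N]; norm_num) (by exact_mod_cast k_one)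
    unfold k
    rw [map_div₀, map_intCast, map_ofNat]
  exact of_deg eN (a := 3) (n := 495766656000) (by norm_num) h (NotCT.Orders.co3 ⟨MulEquiv.refl _⟩) (by norm_num)
    (by norm_num) (by norm_num)

end Cfsg.Agent.DZ3.Spor.Co3
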