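import Cfsg.Agent.DZ3.Spor.Base
import Cfsg.Agent.H691.M23.ThetaOf
import Cfsg.Agent.H651.HNF.Final

/-!
# S4527, sporadic groups: `HN` for `p = 5`, the character of degree `2375000` (helper11)
-/

set_option autoImplicit false

open Cfsg

namespace Cfsg.Agent.DZ3.Spor

open Cfsg.Agent.H665.NoPQ

theorem hn_5 : HasDZ 5 Spor.HN := by
  have hfin : Finite BpSpor.MBigModel.MG := BpSpor.MBigModel.finite
  obtain ⟨u, C, T, t, y, L, h⟩ := H691.M23.theta_target_of H651.HNF.table
  have := Fintype.ofFinite T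
  obtain ⟨θ, F, hθ, f1, -, -, -, h1, -⟩ := h
  have hone : θ 1 = ((2375000 : ℕ) : ℂ) := by
    obtain ⟨b, hb, h2⟩ := hθ.val 1 (by rw [orderOf_one]; norm_num)
    rw [OneMemClass.coe_one, mul_one, h1] at hb
    have h3 : b = 133 := by exact_mod_cast hb.symm
    rw [h2, orderOf_one, h3, f1]
    norm_num
  obtain ⟨e⟩ := L.iso
  exact of_deg e.symm (a := 6) (d := 2375000) (n := 273030912000000) (by norm_num) (mem_of_one hθ.irr hone)
    (NotCT.Orders.hn ⟨MulEquiv.refl _⟩) (by norm_num) (by norm_num) (by norm_num)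

end Cfsg.Agent.DZ3.Spor
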