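import Cfsg.Agent.DZ3.Spor.Rows
import Cfsg.Agent.DZ3.Spor.HN
import Cfsg.Agent.DZ3.Spor.Co1
import Cfsg.Agent.DZ3.Spor.Co2
import Cfsg.Agent.DZ3.Spor.Co3

/-!
# S4527: the row of the sporadic groups from `B/5`, `M/5`, `M/7` (helper11)
-/

set_option autoImplicit false

namespace Cfsg.Agent.DZ3.Spor

open Cfsg Cfsg.Agent.H665.NoPQ

universe u

/-- **the row of the sporadic groups** -/
theorem spor_of' (hK : H995.CopEngine.AllKnown.{0}) (b5 : HasDZ 5 Spor.BabyMonster) (m5 : HasDZ 5 Spor.Monster)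
    (m7 : HasDZ 7 Spor.Monster) : R2.DZ.Row.{u} @IsSporadicGroup :=
  spor_of hK co1_5 Co2.co2_5 Co3.co3_5 hn_5 b5 m5 m7

end Cfsg.Agent.DZ3.Spor
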