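import Cfsg.Agent.DZ3.Spor.Base
import Cfsg.Agent.TAB.M.Main

/-!
# S4527, sporadic groups: the Monster for `p = 5, 7`, a character of degree `8980616927734375` (helper15)
-/

set_option autoImplicit false

namespace Cfsg.Agent.DZ3.Spor

open Cfsg Cfsg.Agent.H665.NoPQ

theorem mem_mon : 8980616927734375 ∈ charDegrees Spor.Monster := by
  obtain ⟨χ, h⟩ := TAB.M.deg
  exact mem_of_one (h.irr 15 (by decide +kernel)) (h.deg 15 (by decide +kernel))

theorem card_mon : Nat.card Spor.Monster = 808017424794512875886459904961710757005754368000000000 := by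
  obtain ⟨e⟩ := H593.IMMon.equivMG
  rw [← BpSpor.MBigModel.card_M]
  exact Nat.card_congr e.toEquiv

/-- **the Monster has a character of `5`-defect zero** -/
theorem m5 : HasDZ 5 Spor.Monster :=
  of_deg (MulEquiv.refl _) (a := 9) (by norm_num) mem_mon card_mon (by norm_num) (by norm_num) (by norm_num)

/-- **the Monster has a character of `7`-defect zero** -/
theorem m7 : HasDZ 7 Spor.Monster :=
  of_deg (MulEquiv.refl _) (a := 6) (by norm_num) mem_mon card_mon (by norm_num) (by norm_num) (by norm_num)

end Cfsg.Agent.DZ3.Spor
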