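import Cfsg.Agent.R2.DZ.Tools
import Cfsg.Agent.NotCT.Orders
import Cfsg.Agent.H424.DegTools

/-!
# S4527, sporadic groups: defect zero from a degree (helper11)
-/

set_option autoImplicit false

open Cfsg

namespace Cfsg.Agent.DZ3.Spor

open Cfsg.Agent.H665.NoPQ

/-- defect zero from a degree of an isomorphic group -/
theorem of_deg {K S : Type*} [Group K] [Group S] (e : K ≃* S) {p a d n : ℕ} (hp : p.Prime) (hd : d ∈ charDegrees S)
    (hn : Nat.card K = n) (h0 : n ≠ 0) (h1 : p ^ a ∣ d) (h2 : ¬ p ^ (a + 1) ∣ n) : HasDZ p K := by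
  have : Finite K := Nat.finite_of_card_ne_zero (by rw [hn]; exact h0)
  rw [← H424.DegTools.charDegrees_congr e] at hd
  obtain ⟨χ, hχ⟩ := hd
  exact R2.DZ.of_dvd hp χ.2 (a := a) (by rw [hχ]; exact h1) (by rw [hn]; exact h2)

/-- a degree from the value at `1` -/
theorem mem_of_one {S : Type*} [Group S] {θ : S → ℂ} (h : IsIrrCharacter S θ) {d : ℕ} (hd : θ 1 = (d : ℕ)) :
    d ∈ charDegrees S :=
  ⟨⟨θ, h⟩, by simp [charDegree, hd]⟩

end Cfsg.Agent.DZ3.Spor
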