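import Cfsg.Agent.DZ3.Spor.Base
import Cfsg.Agent.H300.Cls.GenChar

/-!
# S4527, sporadic groups: a degree from a real generalized character of norm one (helper11)
-/

set_option autoImplicit false

open Cfsg

namespace Cfsg.Agent.DZ3.Spor

open Cfsg.Agent.Characters.Core
open scoped ComplexConjugate

theorem mem_of_gen {G : Type*} [Group G] [Fintype G] {f : G → ℂ} (hf : IsGeneralizedCharacter G f)
    (hreal : ∀ g, conj (f g) = f g) (hsum : ∑ g, f g * f g = Nat.card G) {d : ℕ} (h1 : f 1 = d) :
    d ∈ charDegrees G := by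
  classical
  have hnorm : classInner f f = 1 := by
    rw [classInner_def]
    simp only [hreal]
    rw [hsum]
    have : (Nat.card G : ℂ) ≠ 0 := by exact_mod_cast Nat.card_pos.ne'
    field_simp
  rcases isIrr_of_generalized hf hnorm with h2 | h2
  · exact mem_of_one h2 h1
  · exfalso
    obtain ⟨n, hn, hn'⟩ := isIrr_apply_one h2
    rw [Pi.neg_apply, h1] at hn'
    have h4 : ((n + d : ℕ) : ℂ) = 0 := by
      push_cast
      rw [← hn']
      ring
    have h5 : n + d = 0 := by exact_mod_cast h4
    omega

end Cfsg.Agent.DZ3.Spor
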