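import Cfsg.Agent.DZ3.Spor.Base
import Cfsg.Agent.H816.MEleven
import Cfsg.Agent.H30.FiE.Down
import Cfsg.Agent.H681.Van.TitsFive
import Cfsg.Agent.H681.Van.McLFive
import Cfsg.Agent.H729.FiTTRank
import Cfsg.Agent.H759.LSix.FiTT
import Cfsg.Agent.H687.HeVan
import Cfsg.Agent.H488.S4844.Co1Seven
import Cfsg.Agent.H743.VanJ4
import Cfsg.Agent.H620.PNBSeven
import Cfsg.Agent.H620.TwoVanON
import Cfsg.Agent.H116.LyFive.NBLy
import Cfsg.Agent.H613.Ly5.ThirtyOne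
import Cfsg.Agent.H894.ThTwo

/-!
# S4527, sporadic groups: the rows that are already in the library (helper11)
-/

set_option autoImplicit false

open Cfsg

namespace Cfsg.Agent.DZ3.Spor

open Cfsg.Agent.H665.NoPQ

universe u

theorem j4_11 {K : Type u} [Group K] (h : Spor.IsoJ4 K) : HasDZ 11 K := by
  obtain ⟨e⟩ := h
  exact R2.DZ.congr e.symm H743.VanJ4.hasDZ_eleven

theorem co1_7 {K : Type u} [Group K] (h : Spor.IsoCo1 K) : HasDZ 7 K := by
  obtain ⟨e⟩ := h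
  exact R2.DZ.congr e.symm H488.PSq.Co1Seven.hasDZ

theorem he_5 {K : Type u} [Group K] (h : Spor.IsoHe K) : HasDZ 5 K := by
  obtain ⟨e⟩ := h
  exact R2.DZ.congr e.symm H687.HeVan.hasDZ_5

theorem on_7 {K : Type u} [Group K] (h : Spor.IsoON K) : HasDZ 7 K := by
  obtain ⟨e⟩ := h
  exact R2.DZ.congr e.symm H620.TwoVanON.hasDZ_seven

theorem ly_5 (hK : H995.CopEngine.AllKnown.{0}) {K : Type u} [Group K] (h : Spor.IsoLy K) : HasDZ 5 K := by
  have hn := NotCT.Orders.ly h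
  obtain ⟨e⟩ := h
  have : Finite Spor.Ly := Nat.finite_of_card_ne_zero (by rw [← Nat.card_congr e.toEquiv, hn]; norm_num)
  obtain ⟨χ, hχ⟩ := H116.LyFive.exists_dz_ly hK
    (fun x hx => H613.Ly5.ThirtyOne.card_centralizer31 ⟨MulEquiv.refl _⟩ hx)
  exact of_deg e (a := 6) (by norm_num) ⟨χ, rfl⟩ hn (by norm_num) (by norm_num [hχ]) (by norm_num)

theorem fi24_7 {K : Type u} [Group K] (h : Spor.IsoFi24' K) : HasDZ 7 K := by
  obtain ⟨e⟩ := h
  exact R2.DZ.congr e.symm (H30.FiE.Down.hasDZ (by simp))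

theorem th_all {K : Type u} [Group K] (h : Spor.IsoTh K) {p : ℕ} (hp : p.Prime) : HasDZ p K := by
  have hn := NotCT.Orders.th (K := Spor.Th) ⟨MulEquiv.refl _⟩
  obtain ⟨e⟩ := h
  refine R2.DZ.congr e.symm ?_
  have : Finite Spor.Th := Nat.finite_of_card_ne_zero (by rw [hn]; norm_num)
  obtain ⟨χ, -, hχ⟩ := H894.ThTwo.exists_defect_zero p hp
  refine R2.DZ.of_le χ.2 ?_
  obtain ⟨k, hk⟩ := Cfsg.Agent.H674.Codegree.charDegree_dvd_card χ.2
  have h0 : Nat.card Spor.Th ≠ 0 := Nat.card_pos.ne'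
  have h1 : charDegree (χ : Spor.Th → ℂ) ≠ 0 := fun h => h0 (by rw [hk, h, zero_mul])
  have h2 : k ≠ 0 := fun h => h0 (by rw [hk, h, mul_zero])
  rw [hk, Nat.mul_div_cancel_left _ (Nat.pos_of_ne_zero h1)] at hχ
  rw [hk, Nat.factorization_mul h1 h2, Finsupp.add_apply, Nat.factorization_eq_zero_of_not_dvd hχ, add_zero]

theorem b_7 {K : Type u} [Group K] (h : Spor.IsoB K) : HasDZ 7 K := by
  have : Finite K := Nat.finite_of_card_ne_zero (by rw [NotCT.Orders.b h]; norm_num)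
  exact H620.PNBSeven.hasDZ_seven h

end Cfsg.Agent.DZ3.Spor
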